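import Groth.Agent.RVA57.Sections
import Groth.Agent.EGA73.VeryAmplePnAmple
import Groth.Agent.EGA73.TwistInvertible

/-!
`O(1)` on projective space over an affine scheme is very ample in the projective bundle sense.
-/

set_option autoImplicit false
set_option backward.isDefEq.respectTransparency.types false

noncomputable section

universe u

open CategoryTheory Limits AlgebraicGeometry TopologicalSpace Opposite
open HomogeneousLocalization

namespace Groth.Agent.RVA57

open Var76.LineBundle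

variable (R : Type u) [CommRing R] (n : ℕ)

/-- The coordinate as a degree one element. -/
def coord (k : Fin (n + 1)) : CohB1.polyGrading n R 1 :=
  ⟨MvPolynomial.X k, MvPolynomial.isHomogeneous_X R k⟩

/-- The ratio of two coordinates. -/
def ratio (k i : Fin (n + 1)) : Away (CohB1.polyGrading n R) ((coord R n k).1 : MvPolynomial (Fin (n + 1)) R) :=
  HomogeneousLocalization.mk ⟨1, coord R n i, coord R n k, ⟨1, pow_one _⟩⟩

theorem irrelevant_eq : (HomogeneousIdeal.irrelevant (CohB1.polyGrading n R)).toIdeal =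
    Ideal.span (CohB1.polyGrading n R 1 : Set (MvPolynomial (Fin (n + 1)) R)) :=
  EGA73.ProjUniv.irrelevant_eq_span_one (EGA73.PolySym.linForm_mem n R) (EGA73.PolySym.isSymmetricAlgebra_linForm n R)

theorem adjoin_ratio (k : Fin (n + 1)) :
    Algebra.adjoin (CohB1.polyGrading n R 0) (Set.range (ratio R n k)) = ⊤ := by
  classical
  have hx : Algebra.adjoin (CohB1.polyGrading n R 0)
      (Set.range (MvPolynomial.X : Fin (n + 1) → MvPolynomial (Fin (n + 1)) R)) = ⊤ := by
    refine eq_top_iff.2 fun p _ => ?_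
    induction p using MvPolynomial.induction_on with
    | C a => exact Subalgebra.algebraMap_mem _ (⟨MvPolynomial.C a, MvPolynomial.isHomogeneous_C _ a⟩ : CohB1.polyGrading n R 0)
    | add p q hp hq => exact add_mem (hp trivial) (hq trivial)
    | mul_X p i hp => exact mul_mem (hp trivial) (Algebra.subset_adjoin ⟨i, rfl⟩)
  refine eq_top_iff.2 ((Away.adjoin_mk_prod_pow_eq_top (coord R n k).2 (Fin (n + 1)) MvPolynomial.X hx (fun _ => 1)
    fun i => MvPolynomial.isHomogeneous_X R i).ge.trans (Algebra.adjoin_le ?_))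
  rintro _ ⟨a, ai, hai, -, rfl⟩
  refine (congrArg (fun z => z ∈ Algebra.adjoin (CohB1.polyGrading n R 0) (Set.range (ratio R n k))) ?_).mpr
    (prod_mem fun i _ => pow_mem (Algebra.subset_adjoin (Set.mem_range_self i)) (ai i) :
      ∏ i, ratio R n k i ^ ai i ∈ Algebra.adjoin (CohB1.polyGrading n R 0) (Set.range (ratio R n k)))
  apply HomogeneousLocalization.val_injective
  rw [← HomogeneousLocalization.algebraMap_apply (y := ∏ i, ratio R n k i ^ ai i), map_prod]
  simp only [map_pow, HomogeneousLocalization.algebraMap_apply, ratio, val_mk, Away.val_mk,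
    Localization.mk_pow, Localization.mk_prod]
  congr 1
  refine Subtype.ext ?_
  simp only [SubmonoidClass.coe_finsetProd, SubmonoidClass.coe_pow]
  rw [Finset.prod_pow_eq_pow_sum]
  congr 1
  simpa using hai.symm

theorem appLE_toSpec (f : MvPolynomial (Fin (n + 1)) R) (hf : f ∈ CohB1.polyGrading n R 1) (r : R)
    (h : Proj.basicOpen (CohB1.polyGrading n R) f ≤ CohB1.ProjSpace.toSpec n R ⁻¹ᵁ ⊤) :
    (CohB1.ProjSpace.toSpec n R).appLE ⊤ (Proj.basicOpen (CohB1.polyGrading n R) f) h
        ((Scheme.ΓSpecIso (CommRingCat.of R)).inv r) =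
      Proj.awayToSection (CohB1.polyGrading n R) f
        (fromZeroRingHom (CohB1.polyGrading n R) _ (algebraMap R (CohB1.polyGrading n R 0) r)) := by
  let 𝒜 := CohB1.polyGrading n R
  let D := Proj.basicOpen 𝒜 f
  let q := CohB1.ProjSpace.toSpec n R
  let φ : CommRingCat.of R ⟶ CommRingCat.of (Away 𝒜 f) :=
    CommRingCat.ofHom ((fromZeroRingHom 𝒜 _).comp (algebraMap R (𝒜 0)))
  have e1 : D.ι ≫ q = Proj.basicOpenToSpec 𝒜 f ≫ Spec.map φ := by
    rw [← Proj.basicOpenIsoSpec_hom 𝒜 f hf one_pos, ← Iso.inv_comp_eq, Proj.basicOpenIsoSpec_inv_ι_assoc]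
    refine (Proj.awayι_toSpecZero_assoc 𝒜 f hf one_pos _).trans ?_
    rw [← Spec.map_comp]
    rfl
  have e2 := congr($(Scheme.Hom.congr_app e1 ⊤) ((Scheme.ΓSpecIso (CommRingCat.of R)).inv r))
  have e3 : (Spec.map φ).appTop ((Scheme.ΓSpecIso (CommRingCat.of R)).inv r) =
      (Scheme.ΓSpecIso (CommRingCat.of (Away 𝒜 f))).inv (φ r) :=
    (congr($(Scheme.ΓSpecIso_inv_naturality φ) r)).symm
  have e4 : D.topIso.hom (((D.ι ≫ q).appTop) ((Scheme.ΓSpecIso (CommRingCat.of R)).inv r)) =
      q.appLE ⊤ D h ((Scheme.ΓSpecIso (CommRingCat.of R)).inv r) := by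
    rw [Scheme.Hom.comp_appTop, ← ConcreteCategory.comp_apply, Category.assoc]
    congr 2
  have e5 : (Proj.basicOpenToSpec 𝒜 f ≫ Spec.map φ).appTop ((Scheme.ΓSpecIso (CommRingCat.of R)).inv r) =
      D.topIso.inv (Proj.awayToSection 𝒜 f (φ r)) := by
    rw [Scheme.Hom.comp_appTop, ConcreteCategory.comp_apply, e3]
    change (Proj.basicOpenToSpec 𝒜 f).app ⊤ _ = _
    rw [Proj.basicOpenToSpec_app_top]
    change D.topIso.inv (Proj.awayToSection 𝒜 f ((Scheme.ΓSpecIso _).hom ((Scheme.ΓSpecIso _).inv (φ r)))) = _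
    rw [Iso.inv_hom_id_apply]
  rw [← e4]
  refine (congrArg (fun z => D.topIso.hom z) ?_).trans (congr($(D.topIso.inv_hom_id) (Proj.awayToSection 𝒜 f (φ r))))
  exact (congrArg (fun ψ : D.toScheme ⟶ Spec (CommRingCat.of R) => ψ.appTop _) e1).trans e5

set_option maxHeartbeats 400000 in
theorem isRelVeryAmple_twistProjSpace :
    RelProj.IsRelVeryAmple (CohB1.ProjSpace.toSpec n R) (Twist.twistProjSpace n R 1) := by
  let 𝒜 := CohB1.polyGrading n R
  let q := CohB1.ProjSpace.toSpec n R
  have : IsSeparated q := by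
    have := Proj.isSeparated 𝒜
    exact @MorphismProperty.comp_mem _ _ @IsSeparated _ _ _ _ (Proj.toSpecZero 𝒜) _ this
      (inferInstanceAs (IsSeparated (Spec.map (CommRingCat.ofHom (algebraMap R (𝒜 0))))))
  have : QuasiCompact q := by
    have hamp := EGA73.VeryAmplePnAmple.isAmple_twistProjSpace R n
    have := hamp.2.1
    exact HasAffineProperty.iff_of_isAffine.2 ‹_›
  let L := Twist.twistProjSpace n R 1
  have hL : PicF.IsInvertible L := EGA73.isInvertible_twist (irrelevant_eq R n) 1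
  let G : ULift.{u} (Fin (n + 1)) → (CohB1.ProjSpace n R).Opens := fun k => Proj.basicOpen 𝒜 (coord R n k.down).1
  have h1 : ∀ k, IsFrame L (G k) (res L (le_top : G k ≤ q ⁻¹ᵁ ⊤) (Var76.ProjFrame.sect 𝒜 (coord R n k.down))) :=
    fun k => Var76.ProjFrame.isFrame 𝒜 _
  let U : ULift.{u} (Fin (n + 1)) → (Spec (CommRingCat.of R)).affineOpens := fun _ => ⟨⊤, isAffineOpen_top _⟩
  have hle : ∀ k, G k ≤ q ⁻¹ᵁ (U k).1 := fun k => le_top
  let e : ∀ k, Γ(L, q ⁻¹ᵁ (U k).1) := fun k => Var76.ProjFrame.sect 𝒜 (coord R n k.down)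
  refine @isRelVeryAmple_of_sections _ _ q _ _ L hL _ U e G hle h1 ?_ ?_ ?_ ?_
  · intro k V hV hfr
    refine (le_of_le_of_eq ?_ (Amp73.genLocus_degOneHom (irrelevant_eq R n) (coord R n k.down)))
    refine (Amp73.isFrame_iff_le_genLocus _ _).1 ?_
    show IsFrame _ V (Var76.ZeroScheme.val _ (Var76.Frames.ofSection (Twist.twist 𝒜 1)
      (Twist.globalOf 𝒜 (coord R n k.down) : Γ(Twist.twist 𝒜 1, ⊤))) V)
    exact (Var76.Frames.val_ofSection (Twist.twist 𝒜 1)
      (Twist.globalOf 𝒜 (coord R n k.down) : Γ(Twist.twist 𝒜 1, ⊤)) V).symm ▸ hfr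
  · intro x
    by_contra H
    push Not at H
    refine ProjectiveSpectrum.not_irrelevant_le x ((irrelevant_eq R n).trans_le (Ideal.span_le.2 fun p hp => ?_))
    have hc : p ∈ Submodule.span R (Set.range (MvPolynomial.X : Fin (n + 1) → MvPolynomial (Fin (n + 1)) R)) := by
      rw [← MvPolynomial.homogeneousSubmodule_one_eq_span_X]
      exact hp
    refine Submodule.span_induction (p := fun z _ => z ∈ (x : ProjectiveSpectrum 𝒜).asHomogeneousIdeal.toIdeal)
      ?_ (zero_mem _) (fun a b _ _ ha hb => add_mem ha hb) (fun r a _ ha => ?_) hc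
    · rintro _ ⟨i, rfl⟩
      exact not_not.1 (H ⟨i⟩)
    · rw [MvPolynomial.smul_eq_C_mul]
      exact Ideal.mul_mem_left _ _ ha
  · exact fun k => Proj.isAffineOpen_basicOpen _ _ (coord R n k.down).2 one_pos
  · intro k
    refine eq_top_iff.2 fun a _ => ?_
    obtain ⟨c, rfl⟩ : ∃ c, Proj.awayToSection 𝒜 (coord R n k.down).1 c = a :=
      (ConcreteCategory.bijective_of_isIso
        (Proj.basicOpenIsoAway 𝒜 _ (coord R n k.down).2 one_pos).hom).2 a
    have hc : c ∈ Algebra.adjoin (𝒜 0) (Set.range (ratio R n k.down)) := adjoin_ratio R n k.down ▸ trivial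
    induction hc using Algebra.adjoin_induction with
    | mem c hc =>
      obtain ⟨i, rfl⟩ := hc
      exact Subring.subset_closure (Or.inr ⟨Var76.ProjFrame.sect 𝒜 (coord R n i),
        Var76.ProjFrame.away_smul_frame 𝒜 (coord R n k.down) (coord R n i)⟩)
    | algebraMap z =>
      obtain ⟨r, rfl⟩ : ∃ r, algebraMap R (𝒜 0) r = z := by
        refine ⟨MvPolynomial.coeff 0 z.1, Subtype.ext ?_⟩
        have hz : z.1.totalDegree = 0 := Nat.le_zero.1 (MvPolynomial.IsHomogeneous.totalDegree_le z.2)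
        exact (MvPolynomial.totalDegree_eq_zero_iff_eq_C.1 hz).symm
      exact Subring.subset_closure (Or.inl ⟨_, appLE_toSpec R n _ (coord R n k.down).2 r _⟩)
    | add c d _ _ hc hd => rw [map_add]; exact add_mem (hc trivial) (hd trivial)
    | mul c d _ _ hc hd => rw [map_mul]; exact mul_mem (hc trivial) (hd trivial)

end Groth.Agent.RVA57
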