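import Groth.Agent.RVA57.ImmersionCharts

/-!
An everywhere defined immersion `r_{L,ψ}` makes `L` relatively ample.
-/

set_option autoImplicit false
set_option backward.isDefEq.respectTransparency.types false

universe u

open CategoryTheory CategoryTheory.Limits AlgebraicGeometry TopologicalSpace Opposite
open scoped HomogeneousIdeal

noncomputable section

namespace Groth.Agent.RVA57

open Groth.Agent.EGAProj74 Groth.Agent.Var76.LineBundle Groth.Agent.Var76.ZeroScheme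
open Groth.Agent.EGA73.BundleImmersion Groth.Agent.EGAProj74.RLRel Groth.Agent.Amp73

variable {X : Scheme.{u}} {L : X.Modules} (hL : PicF.IsInvertible L) (hLq : L.IsQuasicoherent)
  {𝒮L : RelProj.QCGrAlg X} {j : L ⟶ 𝒮L.toModule} (hj : RelProj.IsGrSymAlg L 𝒮L j)
  {Y : Scheme.{u}} {q : X ⟶ Y} {𝒮 : RelProj.QCGrAlg Y}

/-- `τ` is the section of `L^{⊗n}` with the coordinates of the image of `s`. -/
def IsPowSection (u : RelProj.QGrHom q 𝒮 𝒮L) (j : L ⟶ 𝒮L.toModule) {U : Y.Opens} (n : ℕ)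
    (s : 𝒮.presheaf.obj (op U)) (τ : Γ(CohB1.tensorPow L n, q ⁻¹ᵁ U)) : Prop :=
  ∀ (W : X.Opens), IsAffineOpen W → ∀ (hW : W ≤ q ⁻¹ᵁ U) (ε : Γ(L, W)), IsFrame L W ε → ∀ a : Γ(X, W),
    (u.appLE U W hW).hom s = (𝒮L.str.app (op W)).hom a * jR j W ε ^ n →
      res (CohB1.tensorPow L n) hW τ = a • epow ε n

include hLq hj in
omit hL in
theorem smul_epow_eq {W : X.Opens} (hW : IsAffineOpen W) {ε ε' : Γ(L, W)} (hε : IsFrame L W ε)
    {n : ℕ} {a a' : Γ(X, W)}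
    (h : (𝒮L.str.app (op W)).hom a * jR j W ε ^ n = (𝒮L.str.app (op W)).hom a' * jR j W ε' ^ n) :
    a • epow ε n = a' • epow ε' n := by
  obtain ⟨c, rfl⟩ := exists_coord_of_frame hε ε'
  rw [jR_smul, mul_pow, ← map_pow, ← mul_assoc, ← map_mul] at h
  have h2 := sub_eq_zero.2 h
  rw [← sub_mul, ← map_sub] at h2
  rw [sub_eq_zero.1 ((isLineGen_of_frame hLq hj hW hε).inj n _ h2), epow_smul, mul_smul]

include hL hLq hj in
theorem exists_isPowSection (u : RelProj.QGrHom q 𝒮 𝒮L) {U : Y.Opens} (hU : IsAffineOpen U) {n : ℕ}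
    {s : 𝒮.presheaf.obj (op U)} (hs : s ∈ 𝒮.deg U hU n) :
    ∃ τ : Γ(CohB1.tensorPow L n, q ⁻¹ᵁ U), IsPowSection u j n s τ := by
  have hloc : ∀ x : ↥(q ⁻¹ᵁ U), ∃ (W : X.affineOpens) (hW : W.1 ≤ q ⁻¹ᵁ U) (ε : Γ(L, W.1)) (a : Γ(X, W.1)),
      x.1 ∈ W.1 ∧ IsFrame L W.1 ε ∧ (u.appLE U W.1 hW).hom s = (𝒮L.str.app (op W.1)).hom a * jR j W.1 ε ^ n :=
    fun x => by
      obtain ⟨W, hxW, hWG, ε, hε⟩ := Mero90.exists_affine_frame hL x.1 (q ⁻¹ᵁ U) x.2
      obtain ⟨a, ha⟩ := (isLineGen_of_frame hLq hj W.2 hε).exists_eq n _ ((u.gradedAt U hU W.1 W.2 hWG).map_mem hs)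
      exact ⟨W, hWG, ε, a, hxW, hε, ha⟩
  choose W hW ε a hxW hε ha using hloc
  have hcomp : ∀ (x : ↥(q ⁻¹ᵁ U)) (V : X.Opens), IsAffineOpen V → ∀ (hVW : V ≤ (W x).1) (ε' : Γ(L, V)),
      IsFrame L V ε' → ∀ a' : Γ(X, V),
      (u.appLE U V (hVW.trans (hW x))).hom s = (𝒮L.str.app (op V)).hom a' * jR j V ε' ^ n →
      res (CohB1.tensorPow L n) hVW (a x • epow (ε x) n) = a' • epow ε' n := by
    intro x V hV hVW ε' hε' a' ha'
    have h1 := congrArg (𝒮L.presheaf.map (homOfLE hVW).op).hom (ha x)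
    rw [map_mul, map_pow, appLE_restrict, res_str, jR_res, ha'] at h1
    rw [Var76.LineBundle.res_smul, res_epow]
    exact smul_epow_eq hLq hj hV ((hε x).res hVW) h1.symm
  obtain ⟨τ, hτ⟩ := QC70.exists_glue (CohB1.tensorPow L n) (fun x => (W x).1) hW
    (fun y hy => Opens.mem_iSup.2 ⟨⟨y, hy⟩, hxW ⟨y, hy⟩⟩) (fun x => a x • epow (ε x) n) fun x y => by
      refine QC70.section_ext _ _ _ fun z hz => ?_
      obtain ⟨V, hzV, hVle, ε', hε'⟩ := Mero90.exists_affine_frame hL z _ hz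
      have hx' : V.1 ≤ (W x).1 := hVle.trans inf_le_left
      have hy' : V.1 ≤ (W y).1 := hVle.trans inf_le_right
      obtain ⟨a', ha'⟩ := (isLineGen_of_frame hLq hj V.2 hε').exists_eq n _
        ((u.gradedAt U hU V.1 V.2 (hx'.trans (hW x))).map_mem hs)
      refine ⟨V.1, hVle, hzV, ?_⟩
      rw [QC70.res_res, QC70.res_res]
      exact (hcomp x V.1 V.2 hx' ε' hε' a' ha').trans (hcomp y V.1 V.2 hy' ε' hε' a' ha').symm
  refine ⟨τ, fun V hV hVU ε' hε' a' ha' => QC70.section_ext _ _ _ fun z hz => ?_⟩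
  obtain ⟨r, hrle, hzr⟩ := hV.exists_basicOpen_le (V := (W ⟨z, hVU hz⟩).1) ⟨z, hxW _⟩ hz
  have hrV : X.basicOpen r ≤ V := X.basicOpen_le r
  refine ⟨X.basicOpen r, hrV, hzr, ?_⟩
  have h1 := congrArg (𝒮L.presheaf.map (homOfLE hrV).op).hom ha'
  rw [map_mul, map_pow, appLE_restrict, res_str, jR_res] at h1
  rw [QC70.res_res]
  refine Eq.trans ?_ ((hcomp _ _ (hV.basicOpen r) hrle _ (hε'.res hrV) _ h1).trans ?_)
  · rw [← hτ ⟨z, hVU hz⟩]
    exact (QC70.res_res _ _ _).symm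
  · rw [← res_epow hrV ε' n]
    exact (Var76.LineBundle.res_smul (CohB1.tensorPow L n) hrV a' (epow ε' n)).symm

include hL hLq hj in
theorem flocus_powSection (u : RelProj.QGrHom q 𝒮 𝒮L) {U : Y.Opens} (hU : IsAffineOpen U) {n : ℕ}
    {s : 𝒮.presheaf.obj (op U)} (hs : s ∈ 𝒮.deg U hU n) {τ : Γ(CohB1.tensorPow L n, q ⁻¹ᵁ U)}
    (hτ : IsPowSection u j n s τ) : flocus τ = RLRel.nonVanish u n s := by
  refine le_antisymm (fun x hx => ?_) (iSup_le fun V x hx => ?_)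
  · obtain ⟨W, hxW, hWle, ε, hε⟩ := Mero90.exists_affine_frame hL x _ hx
    have hWU : W.1 ≤ q ⁻¹ᵁ U := hWle.trans (flocus_le τ)
    obtain ⟨a, ha⟩ := (isLineGen_of_frame hLq hj W.2 hε).exists_eq n _ ((u.gradedAt U hU W.1 W.2 hWU).map_mem hs)
    have h2 := (isFrame_flocus τ).res hWle
    rw [Var76.LineBundle.res_res, hτ W.1 W.2 hWU ε hε a ha, isFrame_smul_iff (isFrame_epow hε n)] at h2
    refine Opens.mem_iSup.mpr ⟨⟨W, hWU, ?_⟩, hxW⟩
    rw [show (u.appLE U W.1 hWU).hom s = _ from ha]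
    exact (span_iff_isUnit (isLineGen_of_frame hLq hj W.2 hε) a n).2 h2
  · obtain ⟨⟨V, hV⟩, hVU, hspan⟩ := V
    obtain ⟨W₀, hxW₀, hW₀V, ε₀, hε₀⟩ := Mero90.exists_affine_frame hL x V hx
    obtain ⟨r, hrle, hxr⟩ := hV.exists_basicOpen_le (V := W₀.1) ⟨x, hxW₀⟩ hx
    obtain ⟨W', hW'⟩ : ∃ W' : X.affineOpens, W'.1 = X.basicOpen r := ⟨⟨_, hV.basicOpen r⟩, rfl⟩
    have hxW' : x ∈ (W' : X.Opens) := hW'.ge hxr
    have i : (W' : X.Opens) ≤ V := hW'.le.trans (X.basicOpen_le r)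
    obtain ⟨ε, hε⟩ : ∃ ε : Γ(L, W'.1), IsFrame L W'.1 ε := ⟨_, hε₀.res (hW'.le.trans hrle)⟩
    have hW'U : (W' : X.Opens) ≤ q ⁻¹ᵁ U := i.trans hVU
    have hgenV := isLineGen_of_frame hLq hj W'.2 hε
    obtain ⟨a, ha⟩ := hgenV.exists_eq n _ ((u.gradedAt U hU W'.1 W'.2 hW'U).map_mem hs)
    have hsp : ((𝒮L.deg W'.1 W'.2 n : AddSubgroup _) : Set (𝒮L.presheaf.obj (op W'.1))) ⊆
        (Ideal.span {(u.appLE U W'.1 hW'U).hom s} : Set (𝒮L.presheaf.obj (op W'.1))) := by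
      intro g hg
      obtain ⟨k, g', hg', hres⟩ := exists_deg_res 𝒮L hV W'.2 i hW' hg
      obtain ⟨y, hy⟩ := Ideal.mem_span_singleton'.mp (hspan hg')
      obtain ⟨w, hw⟩ := ((isUnit_res_str 𝒮L hV i hW').pow k).exists_left_inv
      refine Ideal.mem_span_singleton'.mpr ⟨w * (𝒮L.presheaf.map (homOfLE i).op).hom y, ?_⟩
      rw [← appLE_restrict u i hVU, mul_assoc, ← map_mul, hy, hres, ← mul_assoc, hw, one_mul]
    rw [show (u.appLE U W'.1 hW'U).hom s = _ from ha, span_iff_isUnit hgenV] at hsp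
    refine le_flocus τ hW'U ?_ hxW'
    rw [hτ W'.1 W'.2 hW'U ε hε a ha, isFrame_smul_iff (isFrame_epow hε n)]
    exact hsp

/-- A section of a module over an open as a global section of the restriction. -/
theorem genLocus_ofSection_restrict {M : X.Modules} (G : X.Opens) (τ : Γ(M, G)) :
    CohB1.genLocus _ (Var76.Frames.ofSection (M.restrict G.ι) (res M G.ι_image_top.le τ)) = G.ι ⁻¹ᵁ flocus τ := by
  have him : ∀ V : G.toScheme.Opens, G.ι ''ᵁ V ≤ G := fun V => (G.ι.image_mono le_top).trans G.ι_image_top.le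
  have key : ∀ V : G.toScheme.Opens,
      IsFrame (M.restrict G.ι) V (res (M.restrict G.ι) le_top (res M G.ι_image_top.le τ)) ↔
        IsFrame M (G.ι ''ᵁ V) (res M (him V) τ) := fun V => by
    refine (Props58.PullTensor.isFrame_restrict_iff G.ι M V _).trans ?_
    show IsFrame M _ (res M _ (res M G.ι_image_top.le τ)) ↔ _
    rw [Var76.LineBundle.res_res]
  refine le_antisymm ?_ ?_
  · have h := (isFrame_genLocus (Var76.Frames.ofSection (M.restrict G.ι) (res M G.ι_image_top.le τ)))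
    rw [Var76.Frames.val_ofSection, key] at h
    exact fun z hz => le_flocus τ (him _) h ⟨z, hz, rfl⟩
  · rw [← isFrame_iff_le_genLocus, Var76.Frames.val_ofSection, key]
    have h := (isFrame_flocus τ).res (G.ι.image_preimage_le (flocus τ))
    rwa [Var76.LineBundle.res_res] at h

variable {PL P : Scheme.{u}} {pL : PL ⟶ X}
  {chartL : ∀ (U : X.Opens) (hU : IsAffineOpen U), (((pL ⁻¹ᵁ U : PL.Opens) : Scheme.{u}) ≅ Proj (𝒮L.deg U hU))}
  (hPL : RelProj.IsRelProj 𝒮L pL chartL)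
  {u : RelProj.QGrHom q 𝒮 𝒮L} {p : P ⟶ Y}
  {chart : ∀ (U : Y.Opens) (hU : IsAffineOpen U), (((p ⁻¹ᵁ U : P.Opens) : Scheme.{u}) ≅ Proj (𝒮.deg U hU))}
  {r : (RelProj.domQ u pL chartL : Scheme.{u}) ⟶ P}
  (hr : RelProj.IsProjQMapOn u p chart pL chartL (RelProj.domQ u pL chartL) r)
  (hP : RelProj.IsRelProj 𝒮 p chart)

include hL hLq hj hPL hr hP in
/-- Near a point over `U` the immersion has an affine piece given by an element over `U`. -/
theorem exists_nonVanish_of_isImmersion (htop : RelProj.domQ u pL chartL = ⊤) (himm : IsImmersion r)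
    (x : X) {U : Y.Opens} (hU : IsAffineOpen U) (hxU : q x ∈ U) :
    ∃ (n : ℕ) (s : 𝒮.presheaf.obj (op U)), 0 < n ∧ s ∈ 𝒮.deg U hU n ∧
      x ∈ RLRel.nonVanish u n s ∧ IsAffineOpen (RLRel.nonVanish u n s) := by
  have := isIso_pL hL hLq hj hPL
  let O := r.coborderRange
  have hO : IsClosedImmersion (r ∣_ O) := by
    refine (MorphismProperty.arrow_mk_iso_iff @IsClosedImmersion ?_).mp (inferInstance : IsClosedImmersion r.liftCoborder)
    have hpre : r ⁻¹ᵁ O = ⊤ := top_le_iff.mp fun z _ => by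
      change r.base z ∈ O
      rw [← congr($(r.liftCoborder_ι).base z)]
      exact (r.liftCoborder.base z).2
    refine Arrow.isoMk ((Scheme.topIso _).symm ≪≫ Scheme.isoOfEq _ hpre.symm) (Iso.refl _) ?_
    rw [← cancel_mono O.ι]
    simp [O]
  obtain ⟨w, rfl⟩ := pL.surjective x
  let z : (RelProj.domQ u pL chartL : Scheme.{u}) := ⟨w, htop ▸ Opens.mem_top w⟩
  have hzO : r.base z ∈ O := by
    rw [← congr($(r.liftCoborder_ι).base z)]
    exact (r.liftCoborder.base z).2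
  have hzU : p.base (r.base z) ∈ U := by
    show (r ≫ p).base z ∈ U
    rw [projQMapOn_over u hPL hP hr]
    exact hxU
  obtain ⟨y, hy⟩ := exists_lift (chart := chart) (r.base z) hU hzU
  obtain ⟨n, s, hn, hs, hys, hle⟩ := exists_basicOpen_le (x := y) (O := RelProj.emb p chart U hU ⁻¹ᵁ O)
    (show _ ∈ O from hy ▸ hzO)
  have hpiece : RLRel.piece p chart hU s ≤ O := by
    rintro _ ⟨v, hv, rfl⟩
    exact hle hv
  have hc : IsClosedImmersion (r ∣_ RLRel.piece p chart hU s) := by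
    refine (MorphismProperty.arrow_mk_iso_iff @IsClosedImmersion
      (morphismRestrictRestrict r O (O.ι ⁻¹ᵁ RLRel.piece p chart hU s) ≪≫ morphismRestrictEq r ?_)).mp
      (IsZariskiLocalAtTarget.restrict hO _)
    rw [Scheme.Hom.image_preimage_eq_opensRange_inf, Scheme.Opens.opensRange_ι]
    exact inf_eq_right.mpr hpiece
  obtain ⟨haff, -⟩ := (RLRel.isClosedImmersion_piece_iff hL hLq hj hPL hr hP hn hs).mp hc
  refine ⟨n, s, hn, hs, RLRel.mem_nonVanish_of_piece hL hLq hj hPL hr hP htop _ hn hs fun z' hz' => ?_, haff⟩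
  obtain rfl : z' = z := (RelProj.domQ u pL chartL).ι.isOpenEmbedding.injective (pL.isOpenEmbedding.injective hz')
  exact ⟨y, hys, hy⟩

include hL hLq hj hPL hr hP in
theorem isRelAmple_of_isImmersion [QuasiCompact q] (htop : RelProj.domQ u pL chartL = ⊤) (himm : IsImmersion r) :
    RelAmple.IsRelAmple q L := by
  refine ⟨inferInstance, fun V => ⟨EGA73.isInvertible_restrict hL _, compactSpace_preimage q V.2, fun x => ?_⟩⟩
  let G := q ⁻¹ᵁ V.1
  obtain ⟨n, s, hn, hs, hx, haff⟩ :=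
    exists_nonVanish_of_isImmersion hL hLq hj hPL hr hP htop himm (G.ι x) V.2 x.2
  obtain ⟨τ, hτ⟩ := exists_isPowSection hL hLq hj u V.2 hs
  obtain ⟨m, rfl⟩ : ∃ m, n = m + 1 := ⟨n - 1, by omega⟩
  have hflo := flocus_powSection hL hLq hj u V.2 hs hτ
  refine ⟨m, Var76.Frames.ofSection ((CohB1.tensorPow L (m + 1)).restrict G.ι) (res (CohB1.tensorPow L (m + 1)) G.ι_image_top.le τ) ≫
    (powRestrict G.ι L (m + 1)).inv, ?_⟩
  rw [genLocus_comp_iso]
  erw [genLocus_ofSection_restrict G τ, hflo]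
  refine ⟨hx, haff.preimage_of_isOpenImmersion G.ι ?_⟩
  rw [Scheme.Opens.opensRange_ι]
  exact RLRel.nonVanish_le u (m + 1) s

end Groth.Agent.RVA57
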