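import Groth.Agent.EGAProj74.RLChart
import Groth.Agent.EGA73.QuasiProjective

/-!
An everywhere defined immersion `r_{L,ψ}` into the Proj of an algebra generated in degree one gives charts.
-/

set_option autoImplicit false
set_option backward.isDefEq.respectTransparency.types false

universe u

open CategoryTheory CategoryTheory.Limits AlgebraicGeometry TopologicalSpace Opposite
open scoped HomogeneousIdeal

noncomputable section

namespace Groth.Agent.RVA57

open Groth.Agent.EGAProj74 Groth.Agent.Var76.LineBundle Groth.Agent.Var76.ZeroScheme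
open Groth.Agent.EGA73.BundleImmersion Groth.Agent.EGAProj74.RLRel

variable {X : Scheme.{u}} {L : X.Modules} (hL : PicF.IsInvertible L) (hLq : L.IsQuasicoherent)
  {𝒮L : RelProj.QCGrAlg X} {j : L ⟶ 𝒮L.toModule} (hj : RelProj.IsGrSymAlg L 𝒮L j)

include hL hLq hj in
theorem jR_injective (G : X.Opens) : Function.Injective (jR j G) := by
  intro s t hst
  refine QC70.section_ext L s t fun x hx => ?_
  obtain ⟨W, hxW, hWG, ε, hε⟩ := Mero90.exists_affine_frame hL x G hx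
  refine ⟨W.1, hWG, hxW, ?_⟩
  obtain ⟨a, ha⟩ := exists_coord_of_frame hε (res L hWG s)
  obtain ⟨b, hb⟩ := exists_coord_of_frame hε (res L hWG t)
  show res L hWG s = res L hWG t
  have h1 : jR j W.1 (res L hWG s) = jR j W.1 (res L hWG t) := by rw [← jR_res, hst, jR_res]
  rw [← ha, ← hb, jR_smul, jR_smul] at h1
  have h2 := (isLineGen_of_frame hLq hj W.2 hε).inj 1 (a - b) (by rw [pow_one, map_sub, sub_mul, h1, sub_self])
  rw [← ha, ← hb, sub_eq_zero.1 h2]

variable {Y : Scheme.{u}} {q : X ⟶ Y} {𝒮 : RelProj.QCGrAlg Y}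

include hL hLq hj in
/-- A degree one element gives a section of `L`. -/
theorem exists_section_of_degOne (u : RelProj.QGrHom q 𝒮 𝒮L) {U : Y.Opens} (hU : IsAffineOpen U)
    {e : 𝒮.presheaf.obj (op U)} (he : e ∈ 𝒮.deg U hU 1) :
    ∃ σ : Γ(L, q ⁻¹ᵁ U), (u.app U).hom e = jR j (q ⁻¹ᵁ U) σ := by
  have hloc : ∀ x : ↥(q ⁻¹ᵁ U), ∃ (W : X.affineOpens) (hW : W.1 ≤ q ⁻¹ᵁ U) (s : Γ(L, W.1)),
      x.1 ∈ W.1 ∧ (u.appLE U W.1 hW).hom e = jR j W.1 s := fun x => by
    obtain ⟨W, hxW, hWG, ε, hε⟩ := Mero90.exists_affine_frame hL x.1 (q ⁻¹ᵁ U) x.2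
    obtain ⟨b, hb⟩ := (isLineGen_of_frame hLq hj W.2 hε).exists_eq 1 _ ((u.gradedAt U hU W.1 W.2 hWG).map_mem he)
    refine ⟨W, hWG, b • ε, hxW, ?_⟩
    rw [jR_smul, ← pow_one (jR j W.1 ε)]
    exact hb
  choose W hW s hxW hs using hloc
  obtain ⟨σ, hσ⟩ := QC70.exists_glue L (fun x => (W x).1) hW
    (fun y hy => Opens.mem_iSup.2 ⟨⟨y, hy⟩, hxW ⟨y, hy⟩⟩) s fun x y => by
      refine jR_injective hL hLq hj _ ?_
      show jR j _ (res L _ (s x)) = jR j _ (res L _ (s y))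
      rw [← jR_res, ← jR_res, ← hs, ← hs, appLE_restrict u _ (hW x), appLE_restrict u _ (hW y)]
  refine ⟨σ, QC70.section_ext 𝒮L.toModule _ _ fun x hx => ?_⟩
  refine ⟨(W ⟨x, hx⟩).1, hW ⟨x, hx⟩, hxW ⟨x, hx⟩, ?_⟩
  refine (hs ⟨x, hx⟩).trans ?_
  rw [← hσ ⟨x, hx⟩]
  exact (jR_res j (hW ⟨x, hx⟩) σ).symm

include hL hLq hj in
/-- Elements of an algebra generated in degree one become polynomials in the ratios. -/
theorem exists_mem_closure (u : RelProj.QGrHom q 𝒮 𝒮L) (h1 : 𝒮.IsGenDegOne)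
    (h0 : ∀ (U : Y.Opens) (hU : IsAffineOpen U),
      ((𝒮.deg U hU 0 : AddSubgroup (𝒮.presheaf.obj (op U))) : Set (𝒮.presheaf.obj (op U))) = Set.range (𝒮.str.app (op U)).hom)
    (U : Y.affineOpens) {e : 𝒮.presheaf.obj (op U.1)} (he : e ∈ 𝒮.deg U.1 U.2 1) {σ : Γ(L, q ⁻¹ᵁ U.1)}
    (hσ : (u.app U.1).hom e = jR j (q ⁻¹ᵁ U.1) σ) {d : ℕ} {y : 𝒮.presheaf.obj (op U.1)}
    (hy : y ∈ 𝒮.deg U.1 U.2 d) :
    ∃ c ∈ Subring.closure (chartGens q U Set.univ σ (flocus_le σ)),
      (𝒮L.str.app (op (flocus σ))).hom c * ((u.appLE U.1 (flocus σ) (flocus_le σ)).hom e) ^ d =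
        (u.appLE U.1 (flocus σ) (flocus_le σ)).hom y := by
  classical
  let G := flocus σ
  let φ := (u.appLE U.1 G (flocus_le σ)).hom
  let ψ := (𝒮L.str.app (op G)).hom
  let K := Subring.closure (chartGens q U Set.univ σ (flocus_le σ))
  suffices key : ∀ (z : 𝒮.presheaf.obj (op U.1)) (n : ℕ), ∃ c ∈ K,
      ψ c * φ e ^ n = φ (DirectSum.decompose (𝒮.deg U.1 U.2) z n : 𝒮.presheaf.obj (op U.1)) by
    simpa [DirectSum.decompose_of_mem_same (𝒮.deg U.1 U.2) hy] using key y d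
  intro z
  have hz : z ∈ Subring.closure ((𝒮.deg U.1 U.2 0 : Set (𝒮.presheaf.obj (op U.1))) ∪ (𝒮.deg U.1 U.2 1 : Set _)) :=
    (h1 U.1 U.2).ge trivial
  have hhom : ∀ (k : ℕ) (w : 𝒮.presheaf.obj (op U.1)), w ∈ 𝒮.deg U.1 U.2 k → (∃ c ∈ K, ψ c * φ e ^ k = φ w) →
      ∀ n, ∃ c ∈ K, ψ c * φ e ^ n = φ (DirectSum.decompose (𝒮.deg U.1 U.2) w n : 𝒮.presheaf.obj (op U.1)) := by
    intro k w hw hc n
    by_cases hn : n = k
    · subst hn
      rwa [DirectSum.decompose_of_mem_same (𝒮.deg U.1 U.2) hw]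
    · refine ⟨0, zero_mem _, ?_⟩
      rw [DirectSum.decompose_of_mem_ne (𝒮.deg U.1 U.2) hw (Ne.symm hn), map_zero, map_zero, zero_mul]
  induction hz using Subring.closure_induction with
  | mem w hw =>
    rcases hw with hw | hw
    · refine hhom 0 w hw ?_
      obtain ⟨t, rfl⟩ := (h0 U.1 U.2).le hw
      refine ⟨q.appLE U.1 G (flocus_le σ) t, Subring.subset_closure (Or.inl ⟨t, rfl⟩), ?_⟩
      rw [pow_zero, mul_one]
      exact (congr($(u.toQHom.str_appLE U.1 G (flocus_le σ)).hom t)).symm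
    · refine hhom 1 w hw ?_
      obtain ⟨σ', hσ'⟩ := exists_section_of_degOne hL hLq hj u U.2 hw
      obtain ⟨c, hc⟩ := exists_coord_of_frame (isFrame_flocus σ) (res L (flocus_le σ) σ')
      refine ⟨c, Subring.subset_closure (Or.inr ⟨σ', trivial, hc⟩), ?_⟩
      show ψ c * φ e ^ 1 = φ w
      rw [pow_one, show φ e = _ from appLE_of_app u hσ (flocus_le σ),
        show φ w = _ from appLE_of_app u hσ' (flocus_le σ), ← hc, jR_smul]
  | zero =>
    intro n
    exact ⟨0, zero_mem _, by simp⟩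
  | one =>
    exact hhom 0 1 SetLike.GradedOne.one_mem ⟨1, one_mem _, by simp⟩
  | add a b _ _ ha hb =>
    intro n
    obtain ⟨c, hc, hca⟩ := ha n
    obtain ⟨c', hc', hcb⟩ := hb n
    refine ⟨c + c', add_mem hc hc', ?_⟩
    rw [DirectSum.decompose_add, DirectSum.add_apply, AddSubgroup.coe_add, map_add, map_add, add_mul, hca, hcb]
  | neg a _ ha =>
    intro n
    obtain ⟨c, hc, hca⟩ := ha n
    refine ⟨-c, neg_mem hc, ?_⟩
    rw [DirectSum.decompose_neg, DFinsupp.neg_apply, AddSubgroup.coe_neg, map_neg, map_neg, neg_mul, hca]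
  | mul a b _ _ ha hb =>
    intro n
    choose ca hca hca' using ha
    choose cb hcb hcb' using hb
    rw [DirectSum.decompose_mul, DirectSum.coe_mul_apply]
    have key : ∀ F : Finset (ℕ × ℕ), (∀ ij ∈ F, ij.1 + ij.2 = n) →
        ∃ c ∈ K, ψ c * φ e ^ n = φ (∑ ij ∈ F, (DirectSum.decompose (𝒮.deg U.1 U.2) a ij.1 : 𝒮.presheaf.obj (op U.1)) *
          (DirectSum.decompose (𝒮.deg U.1 U.2) b ij.2 : 𝒮.presheaf.obj (op U.1))) := fun F hF => by
      refine ⟨∑ ij ∈ F, ca ij.1 * cb ij.2, sum_mem fun ij _ => mul_mem (hca _) (hcb _), ?_⟩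
      rw [map_sum, map_sum, Finset.sum_mul]
      refine Finset.sum_congr rfl fun ij hij => ?_
      rw [map_mul, map_mul, ← hca', ← hcb', ← hF ij hij, pow_add]
      ring
    exact key _ fun ij hij => (Finset.mem_filter.1 hij).2

variable {PL P : Scheme.{u}} {pL : PL ⟶ X}
  {chartL : ∀ (U : X.Opens) (hU : IsAffineOpen U), (((pL ⁻¹ᵁ U : PL.Opens) : Scheme.{u}) ≅ Proj (𝒮L.deg U hU))}
  (hPL : RelProj.IsRelProj 𝒮L pL chartL)
  {u : RelProj.QGrHom q 𝒮 𝒮L} {p : P ⟶ Y}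
  {chart : ∀ (U : Y.Opens) (hU : IsAffineOpen U), (((p ⁻¹ᵁ U : P.Opens) : Scheme.{u}) ≅ Proj (𝒮.deg U hU))}
  {r : (RelProj.domQ u pL chartL : Scheme.{u}) ⟶ P}
  (hr : RelProj.IsProjQMapOn u p chart pL chartL (RelProj.domQ u pL chartL) r)
  (hP : RelProj.IsRelProj 𝒮 p chart)

include hL hLq hj hPL hr hP in
/-- Charts from an immersion. -/
theorem exists_hasChart_of_isImmersion (h1 : 𝒮.IsGenDegOne)
    (h0 : ∀ (U : Y.Opens) (hU : IsAffineOpen U),
      ((𝒮.deg U hU 0 : AddSubgroup (𝒮.presheaf.obj (op U))) : Set (𝒮.presheaf.obj (op U))) = Set.range (𝒮.str.app (op U)).hom)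
    (htop : RelProj.domQ u pL chartL = ⊤) (himm : IsImmersion r) (x : X) :
    ∃ (U : Y.affineOpens) (T : Set Γ(L, q ⁻¹ᵁ U.1)), HasChart q U T x := by
  classical
  have := isIso_pL hL hLq hj hPL
  let O := r.coborderRange
  have hO : IsClosedImmersion (r ∣_ O) := by
    refine (MorphismProperty.arrow_mk_iso_iff @IsClosedImmersion ?_).mp (inferInstance : IsClosedImmersion r.liftCoborder)
    have hpre : r ⁻¹ᵁ O = ⊤ := top_le_iff.mp fun z _ => by
      change r.base z ∈ O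
      rw [← congr($(r.liftCoborder_ι).base z)]
      exact (r.liftCoborder.base z).2
    refine Arrow.isoMk ((Scheme.topIso _).symm ≪≫ Scheme.isoOfEq _ hpre.symm) (Iso.refl _) ?_
    rw [← cancel_mono O.ι]
    simp [O]
  obtain ⟨w, rfl⟩ := pL.surjective x
  let z : (RelProj.domQ u pL chartL : Scheme.{u}) := ⟨w, htop ▸ Opens.mem_top w⟩
  have hzO : r.base z ∈ O := by
    rw [← congr($(r.liftCoborder_ι).base z)]
    exact (r.liftCoborder.base z).2
  obtain ⟨U, hU, y, hy⟩ := exists_emb_apply (chart := chart) (r.base z)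
  obtain ⟨e, he, hye⟩ : ∃ e ∈ 𝒮.deg U hU 1, y ∈ Proj.basicOpen (𝒮.deg U hU) e := by
    by_contra H
    push Not at H
    exact ProjectiveSpectrum.not_irrelevant_le y
      ((irrelevant_le_span_one_of_gen (h1 U hU)).trans (Ideal.span_le.2 fun a ha => not_not.1 (H a ha)))
  obtain ⟨m, s, hm, hs, hys, hle⟩ := exists_basicOpen_le (x := y)
    (O := RelProj.emb p chart U hU ⁻¹ᵁ O ⊓ Proj.basicOpen (𝒮.deg U hU) e) ⟨show _ ∈ O from hy ▸ hzO, hye⟩
  have hse : s * e ∈ 𝒮.deg U hU (m + 1) := SetLike.mul_mem_graded hs he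
  have hpiece : RLRel.piece p chart hU (s * e) ≤ O := by
    rintro _ ⟨v, hv, rfl⟩
    exact (hle ((Proj.basicOpen_mul _ s e).le hv).1).1
  have hc : IsClosedImmersion (r ∣_ RLRel.piece p chart hU (s * e)) := by
    refine (MorphismProperty.arrow_mk_iso_iff @IsClosedImmersion
      (morphismRestrictRestrict r O (O.ι ⁻¹ᵁ RLRel.piece p chart hU (s * e)) ≪≫ morphismRestrictEq r ?_)).mp
      (IsZariskiLocalAtTarget.restrict hO _)
    rw [Scheme.Hom.image_preimage_eq_opensRange_inf, Scheme.Opens.opensRange_ι]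
    exact inf_eq_right.mpr hpiece
  obtain ⟨haff, hgen⟩ := (RLRel.isClosedImmersion_piece_iff hL hLq hj hPL hr hP (Nat.succ_pos m) hse).mp hc
  have hxN : pL.base w ∈ RLRel.nonVanish u (m + 1) (s * e) :=
    RLRel.mem_nonVanish_of_piece hL hLq hj hPL hr hP htop _ (Nat.succ_pos m) hse fun z' hz' => by
      obtain rfl : z' = z := (RelProj.domQ u pL chartL).ι.isOpenEmbedding.injective (pL.isOpenEmbedding.injective hz')
      exact ⟨y, (Proj.basicOpen_mul _ s e).ge ⟨hys, hye⟩, hy⟩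
  obtain ⟨σ, hσ⟩ := exists_section_of_degOne hL hLq hj u hU he
  obtain ⟨c, hcK, hcm⟩ := exists_mem_closure hL hLq hj u h1 h0 ⟨U, hU⟩ he hσ hs
  have heq := RLRel.nonVanish_mul hL hLq hj u hU hσ hs (flocus_le σ) rfl hcm
  let K := Subring.closure (chartGens q (⟨U, hU⟩ : Y.affineOpens) Set.univ σ (flocus_le σ))
  have haff' : IsAffineOpen (X.basicOpen c) := heq ▸ haff
  refine ⟨⟨U, hU⟩, Set.univ, σ, trivial, c, hcK, heq ▸ hxN, haff', top_le_iff.1 fun t _ => ?_⟩
  let i : X.basicOpen c ≤ flocus σ := X.basicOpen_le c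
  have hgen' : RLRel.CondGen u hU (m + 1) (s * e) (X.basicOpen c) (i.trans (flocus_le σ)) := by
    have key : ∀ (W : X.Opens), W = RLRel.nonVanish u (m + 1) (s * e) → ∀ hW : W ≤ q ⁻¹ᵁ U,
        RLRel.CondGen u hU (m + 1) (s * e) W hW := by
      rintro W rfl hW
      exact hgen
    exact key _ heq.symm _
  obtain ⟨k, -, s', hs', ht⟩ := hgen' t
  obtain ⟨c', hc'K, hc'⟩ := exists_mem_closure hL hLq hj u h1 h0 ⟨U, hU⟩ he hσ hs'
  have hline := isLineGen_of_frame hLq hj haff' ((isFrame_flocus σ).res i)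
  have hres : ∀ (y : 𝒮.presheaf.obj (op U)) (a : Γ(X, flocus σ)) (n : ℕ),
      (𝒮L.str.app (op (flocus σ))).hom a * ((u.appLE U (flocus σ) (flocus_le σ)).hom e) ^ n =
          (u.appLE U (flocus σ) (flocus_le σ)).hom y →
        (u.appLE U (X.basicOpen c) (i.trans (flocus_le σ))).hom y =
          (𝒮L.str.app (op (X.basicOpen c))).hom (fres i a) * jR j (X.basicOpen c) (res L i (res L (flocus_le σ) σ)) ^ n := by
    intro y a n h
    have h' := congrArg (𝒮L.presheaf.map (homOfLE i).op).hom h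
    rw [map_mul, map_pow, appLE_restrict, appLE_restrict, res_str] at h'
    rw [← h', appLE_of_app u hσ (i.trans (flocus_le σ)), res_res]
  have hE : (u.appLE U (X.basicOpen c) (i.trans (flocus_le σ))).hom e =
      jR j (X.basicOpen c) (res L i (res L (flocus_le σ) σ)) := by
    rw [appLE_of_app u hσ (i.trans (flocus_le σ)), res_res]
  have hteq : t * fres i c ^ k = fres i c' := by
    rw [map_mul, mul_pow, hres s c m hcm, hE, hres s' c' _ hc',
      mul_pow, ← map_pow, ← pow_mul, mul_assoc, ← pow_add, ← mul_assoc, ← map_mul,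
      show m * k + k = k * (m + 1) by ring] at ht
    have h2 := sub_eq_zero.2 ht
    rw [← sub_mul, ← map_sub] at h2
    exact sub_eq_zero.1 (hline.inj _ _ h2)
  obtain ⟨d, hd⟩ : ∃ d : Γ(X, X.basicOpen c), d * fres i c = 1 :=
    IsUnit.exists_left_inv (M := Γ(X, X.basicOpen c)) (RingedSpace.isUnit_res_basicOpen X.toRingedSpace c)
  have hd' : d * fres i c = 1 := hd
  have : t = fres i c' * d ^ k := by
    rw [← hteq, mul_assoc, ← mul_pow, mul_comm (fres i c), hd', one_pow, mul_one]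
  rw [this]
  refine Subring.mul_mem _ ?_ (Subring.pow_mem _ (Subring.subset_closure (Set.mem_union_right _ ?_)) k)
  swap
  · exact hd'
  have h3 : fres i c' ∈ Subring.map (X.presheaf.map (homOfLE i).op).hom K := Subring.mem_map.2 ⟨c', hc'K, rfl⟩
  rw [RingHom.map_closure] at h3
  exact Subring.closure_mono Set.subset_union_left h3

include hL hLq hj hPL hr hP in
theorem isRelVeryAmple_of_isImmersion [QuasiCompact q] (h1 : 𝒮.IsGenDegOne)
    (h0 : ∀ (U : Y.Opens) (hU : IsAffineOpen U),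
      ((𝒮.deg U hU 0 : AddSubgroup (𝒮.presheaf.obj (op U))) : Set (𝒮.presheaf.obj (op U))) = Set.range (𝒮.str.app (op U)).hom)
    (htop : RelProj.domQ u pL chartL = ⊤) (himm : IsImmersion r) : RelProj.IsRelVeryAmple q L := by
  have := isIso_pL hL hLq hj hPL
  have : IsSeparated p := restrict_of_chart (Q := @IsSeparated) hP fun U hU => inferInstance
  let a : X ⟶ (RelProj.domQ u pL chartL : Scheme.{u}) :=
    inv pL ≫ (Scheme.topIso PL).inv ≫ (Scheme.isoOfEq PL htop.symm).hom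
  have ha : a ≫ r ≫ p = q := by
    rw [projQMapOn_over u hPL hP hr]
    simp [a]
  have : QuasiSeparated q := by rw [← ha]; infer_instance
  obtain ⟨𝒯, jT, PT, pT, chartT, O1, lam, i, hF, hjT, hPT, hO1, hi, hip, hτ⟩ :=
    EGA73.QuasiProjective.exists_immersion_pushforward q hL
      (exists_hasChart_of_isImmersion hL hLq hj hPL hr hP h1 h0 htop himm)
  exact ⟨_, hF, 𝒯, jT, hjT, PT, pT, chartT, hPT, O1, lam, hO1, i, hi, hip, hτ⟩

end Groth.Agent.RVA57
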