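import Groth.Agent.EGAProj74.VeryAmpleLocal
import Groth.Agent.EGA73.ImmersionPn

/-!
Very ampleness from sections whose ratios generate the functions on affine generating loci.
-/

set_option autoImplicit false
set_option backward.isDefEq.respectTransparency.types false

noncomputable section

universe u

open CategoryTheory Limits AlgebraicGeometry TopologicalSpace Opposite

namespace Groth.Agent.RVA57

open EGAProj74 Var76.LineBundle

variable {X S : Scheme.{u}}

/-- Sections over preimages of affine opens whose generating opens are affine, cover, and have functions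
generated by ratios of sections and functions on the base give very ampleness. -/
theorem isRelVeryAmple_of_sections (q : X ⟶ S) [QuasiCompact q] [QuasiSeparated q] {L : X.Modules}
    (hL : PicF.IsInvertible L) {J : Type u} (U : J → S.affineOpens) (e : ∀ j, Γ(L, q ⁻¹ᵁ (U j).1))
    (G : J → X.Opens) (hG : ∀ j, G j ≤ q ⁻¹ᵁ (U j).1) (hfr : ∀ j, IsFrame L (G j) (res L (hG j) (e j)))
    (hmax : ∀ j (V : X.Opens) (hV : V ≤ q ⁻¹ᵁ (U j).1), IsFrame L V (res L hV (e j)) → V ≤ G j)
    (hcov : ∀ x, ∃ j, x ∈ G j) (haff : ∀ j, IsAffineOpen (G j))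
    (hgen : ∀ j, Subring.closure (Set.range (q.appLE (U j).1 (G j) (hG j)) ∪
      {a | ∃ e' : Γ(L, q ⁻¹ᵁ (U j).1), a • res L (hG j) (e j) = res L (hG j) e'}) = ⊤) :
    RelProj.IsRelVeryAmple q L := by
  have : L.IsQuasicoherent := Mero90.isQCoh_of_isInvertible hL
  have hEq : ((Scheme.Modules.pushforward q).obj L).IsQuasicoherent := QCqs72.isQuasicoherent_pushforward (M := L) q
  let E := (Scheme.Modules.pushforward q).obj L
  let v : E ⟶ (Scheme.Modules.pushforward q).obj L := 𝟙 _
  have hgv : IsGenerating (g := q) (L := L) v := fun x => by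
    obtain ⟨j, hj⟩ := hcov x
    exact ⟨U j, e j, G j, hG j, hj, hfr j⟩
  obtain ⟨𝒮, j, hj, P, p, chart, hP, O1, lam, hO1⟩ := exists_projBundle (show Coh.IsQCoh _ from hEq)
  obtain ⟨φ, hφ⟩ := exists_canonical hEq hj hO1 hP
  obtain ⟨r, hr⟩ := exists_classifies hEq hj hP hO1 hφ hgv
  refine IsImmData.isRelVeryAmple hEq ⟨hgv, P, 𝒮, j, hj, p, chart, hP, r, ?_, hr⟩
  let D : J → P.Opens := fun k => dOpen j chart (U k) (e k)
  have hpre : ∀ k, r ⁻¹ᵁ D k = G k := fun k => by
    refine le_antisymm ?_ (hr.coord (U k) (e k) (G k) (hG k) (hfr k)).1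
    refine (preimage_dOpen_le_genOpen hEq hj hO1 hφ hgv hr (U k) (e k)).trans ?_
    exact sSup_le fun V ⟨hV, hVfr⟩ => hmax k V hV hVfr
  refine isImmersion_of_pieces r D (fun x => ?_) fun k => ⟨_, 𝟙 _, ?_⟩
  · obtain ⟨k, hk⟩ := hcov x
    exact ⟨k, (show x ∈ r ⁻¹ᵁ D k by rw [hpre]; exact hk)⟩
  rw [Category.comp_id]
  have hD : IsAffineOpen (D k) := isAffineOpen_dOpen chart hj (U k) (e k)
  suffices IsClosedImmersion (r ∣_ D k) by infer_instance
  refine EGA73.ImmersionPn.isClosedImmersion_restrict r hD (by rw [hpre]; exact haff k) ?_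
  have key : ∀ (W : X.Opens) (hW : W = G k) (hle : W ≤ r ⁻¹ᵁ D k), Function.Surjective (r.appLE (D k) W hle) := by
    rintro W rfl hle a
    obtain ⟨_, hc⟩ := hr.coord (U k) (e k) (G k) (hG k) (hfr k)
    have hsub : Subring.closure (Set.range (q.appLE (U k).1 (G k) (hG k)) ∪
        {a | ∃ e' : Γ(L, q ⁻¹ᵁ (U k).1), a • res L (hG k) (e k) = res L (hG k) e'}) ≤
          (r.appLE (D k) (G k) hle).hom.range := by
      rw [Subring.closure_le]
      rintro b (⟨c, rfl⟩ | ⟨e', he'⟩)
      · exact ⟨p.appLE (U k).1 (D k) (dOpen_le (j := j) chart (U k) (e k)) c, congr($(hc.base) c)⟩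
      · refine ⟨dFrac chart hj (U k) (e k) e', ((hfr k) (G k) le_rfl).1 ?_⟩
        show _ • res L le_rfl (res L (hG k) (e k)) = _ • res L le_rfl (res L (hG k) (e k))
        rw [res_res]
        exact (hc.frac e').trans he'.symm
    exact hsub ((hgen k).ge (Subring.mem_top a))
  rw [← Scheme.Hom.appLE_eq_app]
  exact key _ (hpre k) le_rfl

end Groth.Agent.RVA57
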